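import Groth.Prelude.Def_Biext
import Mathlib

/-!
# A biextension of divisible sheaves whose pull back along multiplications is trivial is trivial
-/

set_option autoImplicit false

universe u

open CategoryTheory Opposite

namespace Groth.Agent.BiextDiv27

variable {C : Type (u + 1)} [Category.{u} C] {J : GrothendieckTopology C}

/-- Equality of sections is local, for abelian sheaves. -/
theorem sect_ext (F : Sheaf J AddCommGrpCat.{u + 1}) {T : C} {R : Sieve T} (hR : R ∈ J T)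
    {x y : F.obj.obj (op T)} (h : ∀ ⦃T' : C⦄ (f : T' ⟶ T), R f → F.obj.map f.op x = F.obj.map f.op y) : x = y := by
  have hF : Presheaf.IsSheaf J (F.obj ⋙ forget AddCommGrpCat.{u + 1}) :=
    (Presheaf.isSheaf_iff_isSheaf_comp _ F.obj (forget AddCommGrpCat.{u + 1})).1 F.2
  exact ((isSheaf_iff_isSheaf_of_type _ _).1 hF R hR).isSeparatedFor.ext fun _ f hf => h f hf

/-- Equality of sections is local, for sheaves of sets. -/
theorem set_ext (E : Sheaf J (Type (u + 1))) {T : C} {R : Sieve T} (hR : R ∈ J T)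
    {x y : E.obj.obj (op T)} (h : ∀ ⦃T' : C⦄ (f : T' ⟶ T), R f → E.obj.map f.op x = E.obj.map f.op y) : x = y :=
  ((isSheaf_iff_isSheaf_of_type _ _).1 E.2 R hR).isSeparatedFor.ext fun _ f hf => h f hf

theorem zsmul_id_app (P : Sheaf J AddCommGrpCat.{u + 1}) (n : ℤ) (T : C) (x : P.obj.obj (op T)) :
    (n • 𝟙 P : P ⟶ P).hom.app (op T) x = n • x := rfl

variable [HasSheafify J AddCommGrpCat.{u + 1}] [J.WEqualsLocallyBijective AddCommGrpCat.{u + 1}]

/-- For a divisible sheaf sections are locally divisible. -/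
theorem exists_cover_div (P : Sheaf J AddCommGrpCat.{u + 1}) (n : ℤ) [Epi (n • 𝟙 P)] {T : C}
    (p : P.obj.obj (op T)) :
    ∃ R ∈ J T, ∀ ⦃T' : C⦄ (f : T' ⟶ T), R f → ∃ p' : P.obj.obj (op T'), n • p' = P.obj.map f.op p := by
  have : Sheaf.IsLocallySurjective (n • 𝟙 P) := (Sheaf.isLocallySurjective_iff_epi' (φ := n • 𝟙 P)).2 inferInstance
  exact ⟨_, Presheaf.imageSieve_mem J (n • 𝟙 P : P ⟶ P).hom p, fun T' f ⟨t, ht⟩ => ⟨t, ht⟩⟩

variable {P Q G : Sheaf J AddCommGrpCat.{u + 1}}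

omit [HasSheafify J AddCommGrpCat.{u + 1}] [J.WEqualsLocallyBijective AddCommGrpCat.{u + 1}] in
theorem add₁_act_act (B : Biext J P Q G) {T : C} (g g' : G.obj.obj (op T)) (x z : B.E.obj.obj (op T))
    (h : B.πQ T x = B.πQ T z) :
    B.add₁ T (B.act T g x) (B.act T g' z) ((B.πQ_act T g x).trans (h.trans (B.πQ_act T g' z).symm)) =
      B.act T (g + g') (B.add₁ T x z h) := by
  rw [B.add₁_act T g x (B.act T g' z) (h.trans (B.πQ_act T g' z).symm),
    B.add₁_comm T x (B.act T g' z) (h.trans (B.πQ_act T g' z).symm), B.add₁_act T g' z x h.symm,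
    B.add₁_comm T z x h.symm, ← B.add_act]

omit [HasSheafify J AddCommGrpCat.{u + 1}] [J.WEqualsLocallyBijective AddCommGrpCat.{u + 1}] in
theorem add₂_act_act (B : Biext J P Q G) {T : C} (g g' : G.obj.obj (op T)) (x z : B.E.obj.obj (op T))
    (h : B.πP T x = B.πP T z) :
    B.add₂ T (B.act T g x) (B.act T g' z) ((B.πP_act T g x).trans (h.trans (B.πP_act T g' z).symm)) =
      B.act T (g + g') (B.add₂ T x z h) := by
  rw [B.add₂_act T g x (B.act T g' z) (h.trans (B.πP_act T g' z).symm),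
    B.add₂_comm T x (B.act T g' z) (h.trans (B.πP_act T g' z).symm), B.add₂_act T g' z x h.symm,
    B.add₂_comm T z x h.symm, ← B.add_act]

section

variable {n m : ℤ} {B B' : Biext J P Q G} (φ : Biext.HomOver J (n • 𝟙 P) (m • 𝟙 Q) (𝟙 G) B' B)
  (s : Biext.Splitting J B')

/-- The image of a splitting. -/
def tau (T : C) (p : P.obj.obj (op T)) (q : Q.obj.obj (op T)) : B.E.obj.obj (op T) := φ.map T (s.σ T p q)

omit [HasSheafify J AddCommGrpCat.{u + 1}] [J.WEqualsLocallyBijective AddCommGrpCat.{u + 1}] in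
theorem πP_tau (T : C) (p : P.obj.obj (op T)) (q : Q.obj.obj (op T)) : B.πP T (tau φ s T p q) = n • p := by
  rw [tau, φ.πP_map, s.πP_σ, zsmul_id_app]

omit [HasSheafify J AddCommGrpCat.{u + 1}] [J.WEqualsLocallyBijective AddCommGrpCat.{u + 1}] in
theorem πQ_tau (T : C) (p : P.obj.obj (op T)) (q : Q.obj.obj (op T)) : B.πQ T (tau φ s T p q) = m • q := by
  rw [tau, φ.πQ_map, s.πQ_σ, zsmul_id_app]

omit [HasSheafify J AddCommGrpCat.{u + 1}] [J.WEqualsLocallyBijective AddCommGrpCat.{u + 1}] in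
theorem tau_map {T T' : C} (f : T' ⟶ T) (p : P.obj.obj (op T)) (q : Q.obj.obj (op T)) :
    B.E.obj.map f.op (tau φ s T p q) = tau φ s T' (P.obj.map f.op p) (Q.obj.map f.op q) := by
  rw [tau, tau, ← φ.map_res, s.σ_map]

omit [HasSheafify J AddCommGrpCat.{u + 1}] [J.WEqualsLocallyBijective AddCommGrpCat.{u + 1}] in
theorem tau_add₁ (T : C) (p p' : P.obj.obj (op T)) (q : Q.obj.obj (op T)) :
    tau φ s T (p + p') q = B.add₁ T (tau φ s T p q) (tau φ s T p' q)
      ((πQ_tau φ s T p q).trans (πQ_tau φ s T p' q).symm) := by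
  simp only [tau, s.σ_add₁, φ.map_add₁]

omit [HasSheafify J AddCommGrpCat.{u + 1}] [J.WEqualsLocallyBijective AddCommGrpCat.{u + 1}] in
theorem tau_add₂ (T : C) (p : P.obj.obj (op T)) (q q' : Q.obj.obj (op T)) :
    tau φ s T p (q + q') = B.add₂ T (tau φ s T p q) (tau φ s T p q')
      ((πP_tau φ s T p q).trans (πP_tau φ s T p q').symm) := by
  simp only [tau, s.σ_add₂, φ.map_add₂]

/-- A point killed by `n` does not change the image of the splitting. -/
theorem tau_eq_zero_left [Epi (n • 𝟙 Q)] {T : C} (a : P.obj.obj (op T)) (ha : n • a = 0) (q : Q.obj.obj (op T)) :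
    tau φ s T a q = tau φ s T 0 q := by
  have hex : ∀ (T : C) (a : P.obj.obj (op T)), n • a = 0 → ∀ q : Q.obj.obj (op T),
      ∃! g : G.obj.obj (op T), B.act T g (tau φ s T 0 q) = tau φ s T a q := fun T a ha q =>
    B.existsUnique_act T _ _ (by rw [πP_tau, πP_tau, ha, smul_zero]) (by rw [πQ_tau, πQ_tau])
  let d : ∀ (T : C) (a : (zsmulAddGroupHom n : P.obj.obj (op T) →+ P.obj.obj (op T)).ker),
      Q.obj.obj (op T) → G.obj.obj (op T) := fun T a q => (hex T a.1 a.2 q).choose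
  have hd : ∀ (T : C) a q, B.act T (d T a q) (tau φ s T 0 q) = tau φ s T a.1 q := fun T a q =>
    (hex T a.1 a.2 q).choose_spec.1
  have hu : ∀ (T : C) a q (g : G.obj.obj (op T)), B.act T g (tau φ s T 0 q) = tau φ s T a.1 q → d T a q = g :=
    fun T a q g hg => ((hex T a.1 a.2 q).choose_spec.2 g hg).symm
  have hadd₂ : ∀ (T : C) a q q', d T a (q + q') = d T a q + d T a q' := fun T a q q' => by
    refine hu T a _ _ ?_
    rw [tau_add₂ φ s T 0 q q', ← add₂_act_act, tau_add₂ φ s T a.1 q q']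
    congr 1 <;> exact hd T a _
  have hadd₁ : ∀ (T : C) a a' q, d T (a + a') q = d T a q + d T a' q := fun T a a' q => by
    refine hu T _ q _ ?_
    have e : tau φ s T 0 q = B.add₁ T (tau φ s T 0 q) (tau φ s T 0 q) rfl := by
      rw [← tau_add₁, add_zero]
    conv_lhs => rw [e]
    rw [← add₁_act_act, AddSubgroup.coe_add, tau_add₁ φ s T a.1 a'.1 q]
    congr 1 <;> exact hd T _ q
  have hzero : ∀ (T : C) a (r : Q.obj.obj (op T)), d T a (n • r) = 0 := fun T a r => by
    have h1 : d T a (n • r) = n • d T a r := map_zsmul (AddMonoidHom.mk' (d T a) (hadd₂ T a)) n r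
    have h2 : d T (n • a) r = n • d T a r :=
      map_zsmul (AddMonoidHom.mk' (fun b => d T b r) fun b b' => hadd₁ T b b' r) n a
    have h3 : n • a = 0 := Subtype.ext (by rw [AddSubgroup.coe_zsmul]; exact a.2)
    rw [h1, ← h2, h3]
    exact map_zero (AddMonoidHom.mk' (fun b => d T b r) fun b b' => hadd₁ T b b' r)
  have key : d T ⟨a, ha⟩ q = 0 := by
    obtain ⟨R, hR, hRd⟩ := exists_cover_div Q n q
    refine sect_ext G hR fun T' f hf => ?_
    obtain ⟨r, hr⟩ := hRd f hf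
    have ha' : n • P.obj.map f.op a = 0 := by rw [← map_zsmul, ha, map_zero]
    have e : d T' ⟨P.obj.map f.op a, ha'⟩ (Q.obj.map f.op q) = G.obj.map f.op (d T ⟨a, ha⟩ q) := by
      refine hu _ _ _ _ ?_
      have h := congrArg (B.E.obj.map f.op) (hd T ⟨a, ha⟩ q)
      rw [B.act_map, tau_map, tau_map, map_zero] at h
      exact h
    rw [← e, ← hr, hzero, map_zero]
  have h := hd T ⟨a, ha⟩ q
  rw [key, B.zero_act] at h
  exact h.symm

/-- A point killed by `m` does not change the image of the splitting. -/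
theorem tau_eq_zero_right [Epi (m • 𝟙 P)] {T : C} (p : P.obj.obj (op T)) (a : Q.obj.obj (op T)) (ha : m • a = 0) :
    tau φ s T p a = tau φ s T p 0 := by
  have hex : ∀ (T : C) (a : Q.obj.obj (op T)), m • a = 0 → ∀ p : P.obj.obj (op T),
      ∃! g : G.obj.obj (op T), B.act T g (tau φ s T p 0) = tau φ s T p a := fun T a ha p =>
    B.existsUnique_act T _ _ (by rw [πP_tau, πP_tau]) (by rw [πQ_tau, πQ_tau, ha, smul_zero])
  let d : ∀ (T : C) (a : (zsmulAddGroupHom m : Q.obj.obj (op T) →+ Q.obj.obj (op T)).ker),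
      P.obj.obj (op T) → G.obj.obj (op T) := fun T a p => (hex T a.1 a.2 p).choose
  have hd : ∀ (T : C) a p, B.act T (d T a p) (tau φ s T p 0) = tau φ s T p a.1 := fun T a p =>
    (hex T a.1 a.2 p).choose_spec.1
  have hu : ∀ (T : C) a p (g : G.obj.obj (op T)), B.act T g (tau φ s T p 0) = tau φ s T p a.1 → d T a p = g :=
    fun T a p g hg => ((hex T a.1 a.2 p).choose_spec.2 g hg).symm
  have hadd₁ : ∀ (T : C) a p p', d T a (p + p') = d T a p + d T a p' := fun T a p p' => by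
    refine hu T a _ _ ?_
    rw [tau_add₁ φ s T p p' 0, ← add₁_act_act, tau_add₁ φ s T p p' a.1]
    congr 1 <;> exact hd T a _
  have hadd₂ : ∀ (T : C) a a' p, d T (a + a') p = d T a p + d T a' p := fun T a a' p => by
    refine hu T _ p _ ?_
    have e : tau φ s T p 0 = B.add₂ T (tau φ s T p 0) (tau φ s T p 0) rfl := by
      rw [← tau_add₂, add_zero]
    conv_lhs => rw [e]
    rw [← add₂_act_act, AddSubgroup.coe_add, tau_add₂ φ s T p a.1 a'.1]
    congr 1 <;> exact hd T _ p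
  have hzero : ∀ (T : C) a (r : P.obj.obj (op T)), d T a (m • r) = 0 := fun T a r => by
    have h1 : d T a (m • r) = m • d T a r := map_zsmul (AddMonoidHom.mk' (d T a) (hadd₁ T a)) m r
    have h2 : d T (m • a) r = m • d T a r :=
      map_zsmul (AddMonoidHom.mk' (fun b => d T b r) fun b b' => hadd₂ T b b' r) m a
    have h3 : m • a = 0 := Subtype.ext (by rw [AddSubgroup.coe_zsmul]; exact a.2)
    rw [h1, ← h2, h3]
    exact map_zero (AddMonoidHom.mk' (fun b => d T b r) fun b b' => hadd₂ T b b' r)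
  have key : d T ⟨a, ha⟩ p = 0 := by
    obtain ⟨R, hR, hRd⟩ := exists_cover_div P m p
    refine sect_ext G hR fun T' f hf => ?_
    obtain ⟨r, hr⟩ := hRd f hf
    have ha' : m • Q.obj.map f.op a = 0 := by rw [← map_zsmul, ha, map_zero]
    have e : d T' ⟨Q.obj.map f.op a, ha'⟩ (P.obj.map f.op p) = G.obj.map f.op (d T ⟨a, ha⟩ p) := by
      refine hu _ _ _ _ ?_
      have h := congrArg (B.E.obj.map f.op) (hd T ⟨a, ha⟩ p)
      rw [B.act_map, tau_map, tau_map, map_zero] at h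
      exact h
    rw [← e, ← hr, hzero, map_zero]
  have h := hd T ⟨a, ha⟩ p
  rw [key, B.zero_act] at h
  exact h.symm

/-- The image of the splitting only depends on the multiples. -/
theorem tau_congr [Epi (n • 𝟙 Q)] [Epi (m • 𝟙 P)] {T : C} {p p' : P.obj.obj (op T)} {q q' : Q.obj.obj (op T)}
    (hp : n • p = n • p') (hq : m • q = m • q') : tau φ s T p q = tau φ s T p' q' := by
  have e1 : tau φ s T p q = tau φ s T p' q := by
    have ha : n • (p - p') = 0 := by rw [smul_sub, hp, sub_self]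
    have h1 := tau_add₁ φ s T p' (p - p') q
    have h2 := tau_add₁ φ s T p' 0 q
    rw [add_sub_cancel] at h1
    rw [add_zero] at h2
    refine h1.trans (Eq.trans ?_ h2.symm)
    congr 1
    exact tau_eq_zero_left φ s _ ha q
  have e2 : tau φ s T p' q = tau φ s T p' q' := by
    have ha : m • (q - q') = 0 := by rw [smul_sub, hq, sub_self]
    have h1 := tau_add₂ φ s T p' q' (q - q')
    have h2 := tau_add₂ φ s T p' q' 0
    rw [add_sub_cancel] at h1
    rw [add_zero] at h2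
    refine h1.trans (Eq.trans ?_ h2.symm)
    congr 1
    exact tau_eq_zero_right φ s p' _ ha
  exact e1.trans e2

/-- **Descent of the splitting.** -/
theorem isTrivial_of_homOver [Epi (n • 𝟙 P)] [Epi (m • 𝟙 Q)] [Epi (n • 𝟙 Q)] [Epi (m • 𝟙 P)]
    (φ : Biext.HomOver J (n • 𝟙 P) (m • 𝟙 Q) (𝟙 G) B' B) (s : Biext.Splitting J B') :
    Biext.IsTrivial J B := by
  let R : ∀ (T : C), P.obj.obj (op T) → Q.obj.obj (op T) → Sieve T := fun T p q =>
    Presheaf.imageSieve (n • 𝟙 P : P ⟶ P).hom p ⊓ Presheaf.imageSieve (m • 𝟙 Q : Q ⟶ Q).hom q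
  have hR : ∀ T p q, R T p q ∈ J T := fun T p q => by
    haveI : Sheaf.IsLocallySurjective (n • 𝟙 P) := (Sheaf.isLocallySurjective_iff_epi' (φ := n • 𝟙 P)).2 inferInstance
    haveI : Sheaf.IsLocallySurjective (m • 𝟙 Q) := (Sheaf.isLocallySurjective_iff_epi' (φ := m • 𝟙 Q)).2 inferInstance
    exact J.intersection_covering (Presheaf.imageSieve_mem J (n • 𝟙 P : P ⟶ P).hom p)
      (Presheaf.imageSieve_mem J (m • 𝟙 Q : Q ⟶ Q).hom q)
  have hsol : ∀ T p q, ∃ e : B.E.obj.obj (op T), ∀ ⦃T' : C⦄ (f : T' ⟶ T) (p' : P.obj.obj (op T'))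
      (q' : Q.obj.obj (op T')), n • p' = P.obj.map f.op p → m • q' = Q.obj.map f.op q →
        B.E.obj.map f.op e = tau φ s T' p' q' := by
    intro T p q
    let x : Presieve.FamilyOfElements B.E.obj (R T p q).arrows := fun T' f hf => tau φ s T' hf.1.choose hf.2.choose
    have hx : x.Compatible := by
      intro Y₁ Y₂ Z g₁ g₂ f₁ f₂ h₁ h₂ he
      show B.E.obj.map g₁.op (tau φ s _ _ _) = B.E.obj.map g₂.op (tau φ s _ _ _)
      rw [tau_map, tau_map]
      refine tau_congr φ s ?_ ?_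
      · rw [← map_zsmul, ← map_zsmul]
        refine Eq.trans (congrArg _ h₁.1.choose_spec) (Eq.trans ?_ (congrArg _ h₂.1.choose_spec).symm)
        rw [← ConcreteCategory.comp_apply, ← ConcreteCategory.comp_apply, ← Functor.map_comp, ← Functor.map_comp,
          ← op_comp, ← op_comp, he]
      · rw [← map_zsmul, ← map_zsmul]
        refine Eq.trans (congrArg _ h₁.2.choose_spec) (Eq.trans ?_ (congrArg _ h₂.2.choose_spec).symm)
        rw [← ConcreteCategory.comp_apply, ← ConcreteCategory.comp_apply, ← Functor.map_comp, ← Functor.map_comp,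
          ← op_comp, ← op_comp, he]
    have hS := (isSheaf_iff_isSheaf_of_type _ _).1 B.E.2 (R T p q) (hR T p q)
    obtain ⟨e, he, -⟩ := hS x hx
    refine ⟨e, fun T' f p' q' hp hq => ?_⟩
    have hf : R T p q f := ⟨⟨p', hp⟩, ⟨q', hq⟩⟩
    rw [he f hf]
    exact tau_congr φ s (hf.1.choose_spec.trans hp.symm) (hf.2.choose_spec.trans hq.symm)
  choose σ hσ using hsol
  refine ⟨⟨σ, fun T p q => ?_, fun T p q => ?_, fun {T T'} f p q => ?_, fun T p p' q => ?_, fun T p q q' => ?_⟩⟩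
  · refine sect_ext P (hR T p q) fun T' f hf => ?_
    obtain ⟨⟨p₁, hp₁⟩, ⟨q₁, hq₁⟩⟩ := hf
    rw [← B.πP_map, hσ T p q f p₁ q₁ hp₁ hq₁, πP_tau]
    exact hp₁
  · refine sect_ext Q (hR T p q) fun T' f hf => ?_
    obtain ⟨⟨p₁, hp₁⟩, ⟨q₁, hq₁⟩⟩ := hf
    rw [← B.πQ_map, hσ T p q f p₁ q₁ hp₁ hq₁, πQ_tau]
    exact hq₁
  · refine set_ext B.E (hR T' (P.obj.map f.op p) (Q.obj.map f.op q)) fun T'' g hg => ?_
    obtain ⟨⟨p₁, hp₁⟩, ⟨q₁, hq₁⟩⟩ := hg
    change n • p₁ = _ at hp₁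
    change m • q₁ = _ at hq₁
    rw [hσ T' _ _ g p₁ q₁ hp₁ hq₁, ← ConcreteCategory.comp_apply, ← Functor.map_comp, ← op_comp]
    refine hσ T p q (g ≫ f) p₁ q₁ (hp₁.trans ?_) (hq₁.trans ?_)
    · rw [op_comp, Functor.map_comp, ConcreteCategory.comp_apply]
    · rw [op_comp, Functor.map_comp, ConcreteCategory.comp_apply]
  · refine set_ext B.E (J.intersection_covering (hR T p q) (hR T p' q)) fun T' f hf => ?_
    obtain ⟨⟨⟨p₁, hp₁⟩, ⟨q₁, hq₁⟩⟩, ⟨⟨p₂, hp₂⟩, -⟩⟩ := hf
    change n • p₁ = _ at hp₁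
    change m • q₁ = _ at hq₁
    change n • p₂ = _ at hp₂
    rw [B.add₁_map, hσ T (p + p') q f (p₁ + p₂) q₁ (by rw [smul_add, hp₁, hp₂, map_add]) hq₁, tau_add₁]
    congr 1
    · exact (hσ T p q f p₁ q₁ hp₁ hq₁).symm
    · exact (hσ T p' q f p₂ q₁ hp₂ hq₁).symm
  · refine set_ext B.E (J.intersection_covering (hR T p q) (hR T p q')) fun T' f hf => ?_
    obtain ⟨⟨⟨p₁, hp₁⟩, ⟨q₁, hq₁⟩⟩, ⟨-, ⟨q₂, hq₂⟩⟩⟩ := hf
    change n • p₁ = _ at hp₁
    change m • q₁ = _ at hq₁
    change m • q₂ = _ at hq₂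
    rw [B.add₂_map, hσ T p (q + q') f p₁ (q₁ + q₂) hp₁ (by rw [smul_add, hq₁, hq₂, map_add]), tau_add₂]
    congr 1
    · exact (hσ T p q f p₁ q₁ hp₁ hq₁).symm
    · exact (hσ T p q' f p₁ q₂ hp₁ hq₂).symm

end

end Groth.Agent.BiextDiv27
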